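import Groth.Agent.GrpQ.H792.SliceFlat
import Groth.Agent.GrpQ.H774.SliceRing
import Groth.Agent.GrpQ.H773.Assemble

/-!
# Existence of quasi-finite slices

`exists_slice`: for `A → B` finitely presented with `B → B ⊗_A B` flat and a prime `q` of `B` there is a
quasi-finite finitely presented `A`-algebra `D` with an `A`-algebra map `B → D` such that
`B → D ⊗_A B` is flat and `Spec D → Spec A` hits the image of `q`.
-/

set_option autoImplicit false
universe u

open TensorProduct

namespace Groth.Agent.GrpQ.H792.SliceMain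

variable {A B : Type u} [CommRing A] [CommRing B] [Algebra A B]
  [Algebra.FinitePresentation A B]

omit [Algebra.FinitePresentation A B] in
theorem flat_includeRight_of_flat {D D' : Type u} [CommRing D] [Algebra A D] [CommRing D']
    [Algebra A D'] (f : D →ₐ[A] D') (hf : f.toRingHom.Flat)
    (h : (Algebra.TensorProduct.includeRight : B →ₐ[A] D ⊗[A] B).toRingHom.Flat) :
    (Algebra.TensorProduct.includeRight : B →ₐ[A] D' ⊗[A] B).toRingHom.Flat := by
  have h1 : (Algebra.TensorProduct.includeRight : B →ₐ[A] D' ⊗[A] B).toRingHom =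
      (Algebra.TensorProduct.map f (AlgHom.id A B)).toRingHom.comp
        (Algebra.TensorProduct.includeRight : B →ₐ[A] D ⊗[A] B).toRingHom := by
    ext x; simp
  rw [h1]
  refine h.comp ?_
  exact RingHom.Flat.tensorProductMap (f := f) (g := AlgHom.id A B) hf (RingHom.Flat.id _)

omit [Algebra.FinitePresentation A B] in
/-- the regular element of the fibre -/
theorem exists_regular {E : Type u} [CommRing E] [Algebra A E] [Algebra.FinitePresentation A E]
    (p : Ideal A) [p.IsPrime] (q : Ideal E) [q.IsPrime] [q.LiesOver p]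
    (hqf : ¬ Algebra.QuasiFiniteAt A q) :
    ∃ (b : E) (r : Ideal (E ⧸ Ideal.span {b})), r.IsPrime ∧ r.LiesOver p ∧
      (1 : p.ResidueField) ⊗ₜ[A] b ∈ nonZeroDivisors (p.Fiber E) := by
  let q1 : PrimeSpectrum (p.Fiber E) :=
    PrimeSpectrum.primesOverOrderIsoFiber A E p ⟨q, inferInstance, inferInstance⟩
  have hq1 : q1.asIdeal.comap (Algebra.TensorProduct.includeRight : E →ₐ[A] p.Fiber E) = q := by
    have h1 := (PrimeSpectrum.primesOverOrderIsoFiber A E p).symm_apply_apply
      ⟨q, inferInstance, inferInstance⟩
    have h2 := congrArg Subtype.val h1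
    rw [PrimeSpectrum.coe_primesOverOrderIsoFiber_symm_apply] at h2
    exact h2
  have hno : ¬ IsOpen ({q1} : Set (PrimeSpectrum (p.Fiber E))) := by
    intro ho
    apply hqf
    have : Algebra.QuasiFiniteAt p.ResidueField q1.asIdeal := .of_isOpen_singleton _ ho
    exact .of_quasiFiniteAt_residueField p q q1.asIdeal hq1
  obtain ⟨m, hm, -, c, hcm, hc⟩ := Groth.Agent.UnramA.FlatSlice.exists_maximal_nonZeroDivisor
    p.ResidueField (1 : p.Fiber E) q1
    ((Ideal.ne_top_iff_one _).1 q1.2.ne_top) hno
  obtain ⟨a, ha, b, hab⟩ := Ideal.Fiber.exists_smul_eq_one_tmul p c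
  have hau : IsUnit (algebraMap A (p.Fiber E) a) := by
    rw [IsScalarTower.algebraMap_apply A p.ResidueField (p.Fiber E)]
    refine IsUnit.map _ ?_
    rw [isUnit_iff_ne_zero, ne_eq, Ideal.algebraMap_residueField_eq_zero]
    exact ha
  have hb : (1 : p.ResidueField) ⊗ₜ[A] b ∈ nonZeroDivisors (p.Fiber E) := by
    rw [← hab, Algebra.smul_def]
    exact mul_mem (IsUnit.mem_nonZeroDivisors hau) hc
  have hbm : (1 : p.ResidueField) ⊗ₜ[A] b ∈ m := by
    rw [← hab, Algebra.smul_def]
    exact m.mul_mem_left _ hcm
  have := hm.isPrime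
  let r : Ideal E := m.comap (Algebra.TensorProduct.includeRight : E →ₐ[A] p.Fiber E)
  have hr : r.IsPrime := Ideal.IsPrime.comap _
  have hrp : r.LiesOver p := by
    have : m.LiesOver p := inferInstance
    constructor
    rw [this.over]
    ext x
    simp [r, Ideal.under_def]
  have hbr : b ∈ r := hbm
  have hker : RingHom.ker (Ideal.Quotient.mk (Ideal.span {b})) ≤ r := by
    rw [Ideal.mk_ker, Ideal.span_singleton_le_iff_mem]
    exact hbr
  have hprime : (r.map (Ideal.Quotient.mk (Ideal.span {b}))).IsPrime :=
    Ideal.map_isPrime_of_surjective Ideal.Quotient.mk_surjective hker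
  have hover : (r.map (Ideal.Quotient.mk (Ideal.span {b}))).LiesOver r := by
    constructor
    rw [Ideal.under_def, Ideal.Quotient.algebraMap_eq,
      Ideal.comap_map_of_surjective' _ Ideal.Quotient.mk_surjective, sup_eq_left.2 hker]
  exact ⟨b, _, hprime, Ideal.LiesOver.trans _ r p, hb⟩

/-- The quasi-finite localisation. -/
theorem exists_quasiFinite_away {E : Type u} [CommRing E] [Algebra A E]
    [Algebra.FinitePresentation A E] (q : Ideal E) [q.IsPrime] [Algebra.QuasiFiniteAt A q] :
    ∃ g : E, g ∉ q ∧ Algebra.QuasiFinite A (Localization.Away g) := by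
  obtain ⟨S', hS', r, hrp, H⟩ :=
    Algebra.QuasiFiniteAt.exists_fg_and_exists_notMem_and_awayMap_bijective (R := A) q
  have : Module.Finite A S' := ⟨(Submodule.fg_top _).mpr hS'⟩
  have : Algebra.QuasiFinite A (Localization.Away r) := .trans _ S' _
  have : Algebra.QuasiFinite A (Localization.Away r.1) :=
    .of_surjective_algHom (Localization.awayMapₐ S'.val r) H.2
  exact ⟨r.1, hrp, this⟩

theorem exists_prime_away {E : Type u} [CommRing E] [Algebra A E] (p : Ideal A) [p.IsPrime]
    (q : Ideal E) [q.IsPrime] [q.LiesOver p] (g : E) (hg : g ∉ q) :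
    ∃ (q' : Ideal (Localization.Away g)), q'.IsPrime ∧ q'.LiesOver p := by
  have h3 : (⟨q, inferInstance⟩ : PrimeSpectrum E) ∈
      Set.range (PrimeSpectrum.comap (algebraMap E (Localization.Away g))) := by
    rw [PrimeSpectrum.localization_away_comap_range (Localization.Away g) g]
    exact hg
  obtain ⟨r, hr⟩ := h3
  refine ⟨r.asIdeal, r.2, ?_⟩
  have : r.asIdeal.LiesOver q := ⟨by rw [Ideal.under_def, ← PrimeSpectrum.comap_asIdeal, hr]⟩
  exact Ideal.LiesOver.trans _ q p

theorem exists_slice_aux
    (hB : (Algebra.TensorProduct.includeRight : B →ₐ[A] B ⊗[A] B).toRingHom.Flat)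
    (p : Ideal A) [p.IsPrime] (I : Ideal (p.Fiber B)) :
    ∀ (E : Type u) [CommRing E] [Algebra A E] [Algebra.FinitePresentation A E] (π : B →ₐ[A] E),
      (∀ e : E, ∃ (v : E) (b : B), IsUnit v ∧ v * e = π b) →
      RingHom.ker (Algebra.TensorProduct.map (AlgHom.id A p.ResidueField) π) = I →
      (Algebra.TensorProduct.includeRight : B →ₐ[A] E ⊗[A] B).toRingHom.Flat →
      ∀ (q : Ideal E) [q.IsPrime] [q.LiesOver p],
      ∃ (D : Type u) (_ : CommRing D) (_ : Algebra A D) (_ : B →ₐ[A] D),
        Algebra.FinitePresentation A D ∧ Algebra.QuasiFinite A D ∧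
        (Algebra.TensorProduct.includeRight : B →ₐ[A] D ⊗[A] B).toRingHom.Flat ∧
        ∃ r : Ideal D, r.IsPrime ∧ r.LiesOver p := by
  have hN : IsNoetherianRing (p.Fiber B) := Algebra.FiniteType.isNoetherianRing p.ResidueField _
  induction I using WellFoundedGT.induction with
  | ind I ih =>
    intro E _ _ _ π hπ hI hE q _ _
    by_cases hqf : Algebra.QuasiFiniteAt A q
    · obtain ⟨g, hg, hqf'⟩ := exists_quasiFinite_away (A := A) q
      obtain ⟨q', hq', hq'p⟩ := exists_prime_away p q g hg
      have hfp : Algebra.FinitePresentation A (Localization.Away g) := by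
        have : Algebra.FinitePresentation E (Localization.Away g) :=
          IsLocalization.Away.finitePresentation g
        exact Algebra.FinitePresentation.trans A E _
      refine ⟨Localization.Away g, inferInstance, inferInstance,
        (IsScalarTower.toAlgHom A E (Localization.Away g)).comp π, hfp, hqf', ?_, q', hq', hq'p⟩
      refine flat_includeRight_of_flat (IsScalarTower.toAlgHom A E (Localization.Away g)) ?_ hE
      have : Module.Flat E (Localization.Away g) := IsLocalization.flat _ (Submonoid.powers g)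
      exact RingHom.flat_algebraMap_iff.mpr this
    · obtain ⟨b, r, hr, hrp, hb⟩ := exists_regular (A := A) p q hqf
      obtain ⟨w, hw, hwr, hwf⟩ := SliceFlat.exists_flat_prime π hE p b hb r hrp
      have hfpD : Algebra.FinitePresentation A (E ⧸ Ideal.span {b}) :=
        Algebra.FinitePresentation.quotient ⟨{b}, by simp⟩
      let D := E ⧸ Ideal.span {b}
      let mk : E →ₐ[A] D := Ideal.Quotient.mkₐ A (Ideal.span {b})
      obtain ⟨c, hc, hcf⟩ := Groth.Agent.GrpQ.H774.SliceRing.exists_away hB (mk.comp π) w hwf
      rw [hwr] at hc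
      obtain ⟨q', hq', hq'p⟩ := exists_prime_away p r c hc
      have hfp : Algebra.FinitePresentation A (Localization.Away c) := by
        have : Algebra.FinitePresentation D (Localization.Away c) :=
          IsLocalization.Away.finitePresentation c
        exact Algebra.FinitePresentation.trans A D _
      let ρ : E →ₐ[A] Localization.Away c := (IsScalarTower.toAlgHom A D (Localization.Away c)).comp mk
      refine ih _ ?_ (Localization.Away c) (ρ.comp π) ?_ rfl hcf q'
      · rw [← hI]
        refine lt_of_le_of_ne ?_ ?_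
        · intro x hx
          rw [RingHom.mem_ker] at hx ⊢
          have h1 : Algebra.TensorProduct.map (AlgHom.id A p.ResidueField) (ρ.comp π) =
              (Algebra.TensorProduct.map (AlgHom.id A p.ResidueField) ρ).comp
                (Algebra.TensorProduct.map (AlgHom.id A p.ResidueField) π) := by
            ext <;> simp
          rw [h1, AlgHom.comp_apply, hx, map_zero]
        · intro heq
          obtain ⟨v, b₀, hv, hb₀⟩ := hπ b
          have h1 : (1 : p.ResidueField) ⊗ₜ[A] b₀ ∈ RingHom.ker
              (Algebra.TensorProduct.map (AlgHom.id A p.ResidueField) (ρ.comp π)) := by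
            rw [RingHom.mem_ker]
            simp only [Algebra.TensorProduct.map_tmul, AlgHom.comp_apply, ← hb₀, map_mul]
            have h2 : ρ b = 0 := by
              simp only [ρ, AlgHom.comp_apply]
              have : mk b = 0 := Ideal.Quotient.eq_zero_iff_mem.2 (Ideal.mem_span_singleton_self _)
              rw [this, map_zero]
            rw [h2, mul_zero, tmul_zero]
          rw [← heq, RingHom.mem_ker, Algebra.TensorProduct.map_tmul, ← hb₀] at h1
          have h3 : (Algebra.TensorProduct.includeRight : E →ₐ[A] p.Fiber E) v *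
              ((1 : p.ResidueField) ⊗ₜ[A] b) = 0 := by
            rw [Algebra.TensorProduct.includeRight_apply, Algebra.TensorProduct.tmul_mul_tmul, one_mul]
            exact h1
          have h4 : (Algebra.TensorProduct.includeRight : E →ₐ[A] p.Fiber E) v = 0 :=
            (mem_nonZeroDivisors_iff.1 hb).2 _ h3
          have h5 := hv.map (Algebra.TensorProduct.includeRight : E →ₐ[A] p.Fiber E)
          rw [h4, isUnit_zero_iff] at h5
          have h6 : Subsingleton (p.Fiber E) := subsingleton_of_zero_eq_one h5
          let q1 : PrimeSpectrum (p.Fiber E) :=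
            PrimeSpectrum.primesOverOrderIsoFiber A E p ⟨q, inferInstance, inferInstance⟩
          exact q1.2.ne_top ((Ideal.eq_top_iff_one _).2 (by
            rw [Subsingleton.elim (1 : p.Fiber E) 0]; exact q1.asIdeal.zero_mem))
      · intro e
        obtain ⟨x, ⟨_, n, rfl⟩, rfl⟩ := IsLocalization.exists_mk'_eq (Submonoid.powers c) e
        obtain ⟨y, rfl⟩ := Ideal.Quotient.mk_surjective x
        obtain ⟨v, b₀, hv, hb₀⟩ := hπ y
        refine ⟨ρ v * algebraMap D _ (c ^ n), b₀, ?_, ?_⟩
        · refine (hv.map ρ).mul ?_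
          rw [map_pow]
          exact (IsLocalization.Away.algebraMap_isUnit c).pow n
        · have h1 : (ρ.comp π) b₀ = ρ v * ρ y := by
            rw [AlgHom.comp_apply, ← hb₀, map_mul]
          rw [h1, mul_assoc]
          congr 1
          rw [mul_comm]
          exact IsLocalization.mk'_spec (Localization.Away c) (mk y)
            (⟨c ^ n, n, rfl⟩ : Submonoid.powers c)

/-- Existence of quasi-finite slices: `Assemble.P2`. -/
theorem exists_slice : Groth.Agent.GrpQ.H773.Assemble.P2.{u} := by
  intro A B _ _ _ _ hB q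
  have hB' : (Algebra.TensorProduct.includeRight : B →ₐ[A] B ⊗[A] B).toRingHom.Flat := by
    have h1 : (Algebra.TensorProduct.includeRight : B →ₐ[A] B ⊗[A] B).toRingHom =
        (Algebra.TensorProduct.comm A B B : B ⊗[A] B →+* B ⊗[A] B).comp
          (algebraMap B (B ⊗[A] B)) := by
      ext x; simp
    rw [h1]
    exact (RingHom.flat_algebraMap_iff.mpr hB).comp
      (RingHom.Flat.of_bijective (Algebra.TensorProduct.comm A B B).bijective)
  let p : Ideal A := q.asIdeal.comap (algebraMap A B)
  have hp : p.IsPrime := Ideal.IsPrime.comap _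
  have hqp : q.asIdeal.LiesOver p := ⟨rfl⟩
  obtain ⟨D, _, _, g, h1, h2, h3, r, hr, hrp⟩ := exists_slice_aux hB' p _ B (AlgHom.id A B)
    (fun e => ⟨1, e, isUnit_one, by simp⟩) rfl hB' q.asIdeal
  exact ⟨D, inferInstance, inferInstance, g, h1, h2, h3, ⟨r, hr⟩, PrimeSpectrum.ext hrp.over.symm⟩

end Groth.Agent.GrpQ.H792.SliceMain
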