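import Mathlib

/-!
# Regular elements on fibres and base change
-/

set_option autoImplicit false
universe u v

open TensorProduct

namespace Groth.Agent.GrpQ.H792.FiberReg

/-- nonzerodivisors are preserved by tensoring with a field extension -/
theorem one_tmul_mem_nonZeroDivisors (k : Type*) [Field k] {L F : Type*} [CommRing L]
    [Algebra k L] [CommRing F] [Algebra k F] {c : F} (hc : c ∈ nonZeroDivisors F) :
    (1 : L) ⊗ₜ[k] c ∈ nonZeroDivisors (L ⊗[k] F) := by
  have h1 : Function.Injective (LinearMap.mulLeft k c) := by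
    rw [injective_iff_map_eq_zero]
    intro x hx
    exact (mem_nonZeroDivisors_iff.1 hc).1 x hx
  have h2 := Module.Flat.lTensor_preserves_injective_linearMap (M := L) _ h1
  have h3 : ∀ x : L ⊗[k] F, (LinearMap.mulLeft k c).lTensor L x = ((1 : L) ⊗ₜ[k] c) * x := by
    intro x
    induction x with
    | zero => simp
    | add x y hx hy => rw [map_add, hx, hy, mul_add]
    | tmul a b => simp [Algebra.TensorProduct.tmul_mul_tmul]
  rw [mem_nonZeroDivisors_iff_left]
  intro x hx
  rw [← h3] at hx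
  exact (injective_iff_map_eq_zero _).1 h2 x hx

/-- Let `A → B` and `A → E` be ring maps and `P` a prime of `B` over the prime `p` of `A`. If `e : E`
is regular on the fibre `κ(p) ⊗ E` then `1 ⊗ e` is regular on the fibre
`κ(P) ⊗_B (B ⊗_A E)`. -/
theorem one_tmul_one_tmul_mem {A B E : Type*} [CommRing A] [CommRing B] [CommRing E] [Algebra A B]
    [Algebra A E] (p : Ideal A) [p.IsPrime] (P : Ideal B) [P.IsPrime] [P.LiesOver p] {e : E}
    (he : (1 : p.ResidueField) ⊗ₜ[A] e ∈ nonZeroDivisors (p.Fiber E)) :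
    (1 : P.ResidueField) ⊗ₜ[B] ((1 : B) ⊗ₜ[A] e) ∈ nonZeroDivisors (P.Fiber (B ⊗[A] E)) := by
  let a1 : Algebra p.ResidueField P.ResidueField :=
    (Ideal.ResidueField.mapₐ p P (Algebra.ofId A B) (P.over_def p)).toRingHom.toAlgebra
  have : IsScalarTower A p.ResidueField P.ResidueField := .of_algebraMap_eq' (by
    exact (Ideal.ResidueField.mapₐ p P (Algebra.ofId A B) (P.over_def p)).comp_algebraMap.symm)
  have h1 := one_tmul_mem_nonZeroDivisors p.ResidueField (L := P.ResidueField) he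
  let e1 : P.ResidueField ⊗[p.ResidueField] (p.ResidueField ⊗[A] E) ≃ₐ[P.ResidueField]
      P.ResidueField ⊗[A] E :=
    Algebra.TensorProduct.cancelBaseChange A p.ResidueField P.ResidueField P.ResidueField E
  let e2 : P.ResidueField ⊗[B] (B ⊗[A] E) ≃ₐ[P.ResidueField] P.ResidueField ⊗[A] E :=
    Algebra.TensorProduct.cancelBaseChange A B P.ResidueField P.ResidueField E
  have h2 : e2.symm (e1 (1 ⊗ₜ (1 ⊗ₜ e))) = 1 ⊗ₜ (1 ⊗ₜ e) := by
    rw [AlgEquiv.symm_apply_eq]
    simp [e1, e2]
  rw [← h2]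
  have h3 : (e1.trans e2.symm) (1 ⊗ₜ (1 ⊗ₜ e)) ∈ nonZeroDivisors _ := by
    rw [← MulEquivClass.map_nonZeroDivisors (e1.trans e2.symm)]
    exact ⟨_, h1, rfl⟩
  exact h3

end Groth.Agent.GrpQ.H792.FiberReg
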