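import Groth.Agent.UnramA.FlatSlice
import Groth.Agent.GrpQ.H792.FiberReg
import Groth.Agent.GrpQ.H774.SliceCrit

/-!
# One slice
-/

set_option autoImplicit false
universe u

open TensorProduct

namespace Groth.Agent.GrpQ.H792.SliceFlat

variable {A B E : Type u} [CommRing A] [CommRing B] [CommRing E] [Algebra A B] [Algebra A E]
  [Algebra.FinitePresentation A B] [Algebra.FinitePresentation A E]

/-- Let `E → D = E / b` with `b` regular on the fibre of `E` over `p`, `π : B → E` an `A`-algebra map with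
`B → E ⊗ B` flat. If `r'` is a prime of `D` over `p` then there is a prime `w` of `D ⊗ B` over `r'`
at which `B → D ⊗ B` is flat. -/
theorem exists_flat_prime (π : B →ₐ[A] E)
    (hE : (Algebra.TensorProduct.includeRight : B →ₐ[A] E ⊗[A] B).toRingHom.Flat)
    (p : Ideal A) [p.IsPrime] (b : E)
    (hb : (1 : p.ResidueField) ⊗ₜ[A] b ∈ nonZeroDivisors (p.Fiber E))
    (r' : Ideal (E ⧸ Ideal.span {b})) [r'.IsPrime] (hr' : r'.LiesOver p) :
    ∃ (w : Ideal ((E ⧸ Ideal.span {b}) ⊗[A] B)) (_ : w.IsPrime),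
      w.comap (Algebra.TensorProduct.includeLeft :
        (E ⧸ Ideal.span {b}) →ₐ[A] (E ⧸ Ideal.span {b}) ⊗[A] B) = r' ∧
      RingHom.Flat (R := B) (S := Localization.AtPrime w)
      ((algebraMap ((E ⧸ Ideal.span {b}) ⊗[A] B) (Localization.AtPrime w)).comp
        (Algebra.TensorProduct.includeRight :
          B →ₐ[A] (E ⧸ Ideal.span {b}) ⊗[A] B).toRingHom) := by
  let D := E ⧸ Ideal.span {b}
  let mk : E →ₐ[A] D := Ideal.Quotient.mkₐ A (Ideal.span {b})
  -- multiplication maps
  let μE : B ⊗[A] E →ₐ[A] E := Algebra.TensorProduct.productMap π (AlgHom.id A E)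
  let μD : D ⊗[A] B →ₐ[A] D := Algebra.TensorProduct.productMap (AlgHom.id A D) (mk.comp π)
  let r : Ideal E := r'.comap mk
  have hr : r.IsPrime := Ideal.IsPrime.comap _
  let w : Ideal (D ⊗[A] B) := r'.comap μD
  have hw : w.IsPrime := Ideal.IsPrime.comap _
  refine ⟨w, hw, ?_, ?_⟩
  · change (r'.comap μD).comap _ = r'
    rw [Ideal.comap_comapₐ]
    have : μD.comp Algebra.TensorProduct.includeLeft = AlgHom.id A D := by
      ext; simp [μD]
    rw [this]
    exact Ideal.comap_id _
  let q : Ideal (B ⊗[A] E) := r.comap μE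
  have hq : q.IsPrime := Ideal.IsPrime.comap _
  let P : Ideal B := r.comap π
  have hP : P.IsPrime := Ideal.IsPrime.comap _
  have hPp : P.LiesOver p := by
    constructor
    rw [hr'.over]
    ext x
    simp [P, r, mk, Ideal.under_def]
  have hqP : q.LiesOver P := by
    constructor
    ext x
    simp [P, q, r, μE, Ideal.under_def]
  have hbP := FiberReg.one_tmul_one_tmul_mem (B := B) p P hb
  have hflat : Module.Flat B (B ⊗[A] E) := by
    rw [← RingHom.flat_algebraMap_iff]
    have h1 : algebraMap B (B ⊗[A] E) =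
        (Algebra.TensorProduct.comm A E B : E ⊗[A] B →+* B ⊗[A] E).comp
          (Algebra.TensorProduct.includeRight : B →ₐ[A] E ⊗[A] B).toRingHom := by
      ext x; simp
    rw [h1]
    exact hE.comp (RingHom.Flat.of_bijective (Algebra.TensorProduct.comm A E B).bijective)
  have hflatq : Module.Flat B (Localization.AtPrime q) := Module.Flat.trans B (B ⊗[A] E) _
  -- the quotient
  let Φ : B ⊗[A] E →ₐ[A] D ⊗[A] B :=
    (Algebra.TensorProduct.comm A B D).toAlgHom.comp (Algebra.TensorProduct.map (AlgHom.id A B) mk)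
  have hmk : Function.Surjective mk := Ideal.Quotient.mkₐ_surjective _ _
  have hΦ : Function.Surjective Φ := by
    exact (Algebra.TensorProduct.comm A B D).surjective.comp
      (TensorProduct.map_surjective Function.surjective_id hmk)
  have hker : RingHom.ker Φ = Ideal.span {(1 : B) ⊗ₜ[A] b} := by
    have h1 := Algebra.TensorProduct.lTensor_ker (R := A) (A := B) (C := E) (D := D) mk hmk
    have h2 : RingHom.ker mk = Ideal.span {b} := Ideal.Quotient.mkₐ_ker A (Ideal.span {b})
    rw [h2, Ideal.map_span, Set.image_singleton] at h1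
    rw [show ((1 : B) ⊗ₜ[A] b) = (Algebra.TensorProduct.includeRight : E →ₐ[A] B ⊗[A] E) b from rfl,
      ← h1]
    ext x
    simp only [Φ, RingHom.mem_ker, AlgHom.comp_apply]
    exact (Algebra.TensorProduct.comm A B D).map_eq_zero_iff
  let θ : ((B ⊗[A] E) ⧸ Ideal.span {(1 : B) ⊗ₜ[A] b}) ≃+* D ⊗[A] B :=
    (Ideal.quotEquivOfEq hker.symm).trans (RingHom.quotientKerEquivOfSurjective (f := Φ.toRingHom) hΦ)
  have hθ : ∀ x, θ (Ideal.Quotient.mk _ x) = Φ x := fun x => rfl
  let q' : Ideal ((B ⊗[A] E) ⧸ Ideal.span {(1 : B) ⊗ₜ[A] b}) := w.comap θ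
  have hq' : q'.IsPrime := Ideal.IsPrime.comap _
  have hμ : ∀ x, μD (Φ x) = mk (μE x) := by
    intro x
    induction x with
    | zero => simp
    | add x y hx hy => rw [map_add, map_add, map_add, map_add, hx, hy]
    | tmul x y => simp [μD, μE, Φ, mul_comm]
  have hq'q : q'.LiesOver q := by
    constructor
    ext x
    rw [Ideal.under_def, Ideal.mem_comap, Ideal.mem_comap, Ideal.mem_comap, Ideal.mem_comap]
    change _ ↔ μD (θ (Ideal.Quotient.mk _ x)) ∈ r'
    rw [hθ, hμ]
  have key := Groth.Agent.GrpQ.H774.SliceCrit.flat_quotient P q hflatq ((1 : B) ⊗ₜ[A] b) hbP q'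
  let e : Localization.AtPrime q' ≃+* Localization.AtPrime w := Localization.localRingEquiv q' w θ rfl
  have h3 : RingHom.Flat (R := B) (S := Localization.AtPrime q')
    (algebraMap B (Localization.AtPrime q')) := RingHom.flat_algebraMap_iff.mpr key
  have h4 : (algebraMap (D ⊗[A] B) (Localization.AtPrime w)).comp
      (Algebra.TensorProduct.includeRight : B →ₐ[A] D ⊗[A] B).toRingHom =
      (e : Localization.AtPrime q' →+* Localization.AtPrime w).comp
        (algebraMap B (Localization.AtPrime q')) := by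
    ext x
    rw [RingHom.comp_apply, RingHom.comp_apply,
      IsScalarTower.algebraMap_apply B ((B ⊗[A] E) ⧸ Ideal.span {(1 : B) ⊗ₜ[A] b})
        (Localization.AtPrime q')]
    have h5 : e (algebraMap _ (Localization.AtPrime q')
        (algebraMap B ((B ⊗[A] E) ⧸ Ideal.span {(1 : B) ⊗ₜ[A] b}) x)) =
        algebraMap _ (Localization.AtPrime w)
          (θ (algebraMap B ((B ⊗[A] E) ⧸ Ideal.span {(1 : B) ⊗ₜ[A] b}) x)) :=
      Localization.localRingHom_to_map q' w θ.toRingHom rfl _
    refine Eq.trans ?_ h5.symm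
    congr 1
  rw [h4]
  exact h3.comp (RingHom.Flat.of_bijective e.bijective)

end Groth.Agent.GrpQ.H792.SliceFlat
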